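import Groth.Agent.S2135
import Groth.Agent.Hens.StrictAtPrime
import Groth.Agent.Hens.BranchCore
import Groth.Agent.Hens.CompletionBranch
import Groth.Agent.Hensel.EtLikeLocal
import Groth.Agent.StrictHens.Basic
import Mathlib.FieldTheory.IsSepClosed

/-!
Branches of a strict henselization at a non closed point.
-/

set_option autoImplicit false
set_option linter.style.haveILetI false

universe u

open IsLocalRing

namespace Groth.Agent.Hens51

variable {A : Type u} [CommRing A] [IsLocalRing A] {Ash : Type u} [CommRing Ash] [IsLocalRing Ash]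
  [Algebra A Ash]

/-- A strict henselization of a zero dimensional local ring has a unique minimal prime. -/
theorem hasUniqueMinimalPrime_of_forall_eq (h : Hensel.IsEtLike A Ash)
    (hA : ∀ p : Ideal A, p.IsPrime → p = maximalIdeal A) : CAlgX.HasUniqueMinimalPrime Ash := by
  have key : ∀ Q : Ideal Ash, Q.IsPrime → Q = maximalIdeal Ash := fun Q hQ => by
    haveI := hQ
    exact h.eq_of_le_of_comap_eq (le_maximalIdeal hQ.ne_top)
      ((hA _ inferInstance).trans (hA _ inferInstance).symm)
  exact ⟨maximalIdeal Ash, ⟨⟨inferInstance, bot_le⟩, fun q hq _ => (key q hq.1).ge⟩,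
    fun q hq => key q hq.1.1⟩

omit [IsLocalRing A] in
/-- A point of an étale algebra factors through a map of strictly henselian rings. -/
theorem exists_lift_range {L S T : Type u} [CommRing L] [IsLocalRing L] [Algebra A L]
    [CommRing S] [HenselianLocalRing S] [IsSepClosed (ResidueField S)]
    [CommRing T] [HenselianLocalRing T] [Algebra L S] [IsLocalHom (algebraMap L S)] [Algebra A S]
    [IsScalarTower A L S] [Algebra L T] [IsLocalHom (algebraMap L T)] [Algebra A T]
    [IsScalarTower A L T] (g : S →+* T) (τ : ResidueField S →+* ResidueField T)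
    (hg : g.comp (algebraMap L S) = algebraMap L T) (hgr : ∀ x, residue T (g x) = τ (residue S x))
    {B : Type u} [CommRing B] [Algebra A B] [Algebra.Etale A B] (θT : B →ₐ[A] T) (c : B) :
    ∃ w : S, g w = θT c := by
  have hgA : ∀ a, g (algebraMap A S a) = algebraMap A T a := fun a => by
    rw [IsScalarTower.algebraMap_apply A L S, ← RingHom.comp_apply, hg,
      ← IsScalarTower.algebraMap_apply]
  have hsep : ∀ c : B, residue T (θT c) ∈ τ.fieldRange := fun c => by
    refine StrictHens.Basic.mem_range τ (RingHom.id (ResidueField T))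
      (residue T (θT c)) fun K' hK' => ?_
    have hs := Hens.isSeparable_residue_of_etale A L T θT c
    let φ : ResidueField L →+* K' := (algebraMap (ResidueField L) (ResidueField T)).codRestrict K'
      fun y => hK' _ (by
        obtain ⟨y, rfl⟩ := residue_surjective y
        refine ⟨residue S (algebraMap L S y), ?_⟩
        rw [← hgr, show g (algebraMap L S y) = algebraMap L T y from RingHom.congr_fun hg y]
        rfl)
    letI : Algebra (ResidueField L) K' := φ.toAlgebra
    haveI : IsScalarTower (ResidueField L) K' (ResidueField T) := .of_algebraMap_eq fun _ => rfl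
    exact IsSeparable.tower_top K' hs
  let e := RingEquiv.ofBijective τ.rangeRestrictField τ.rangeRestrictField_bijective
  let σ₀ : B →+* ResidueField S :=
    e.symm.toRingHom.comp (((residue T).comp θT.toRingHom).codRestrict τ.fieldRange hsep)
  have hσ₀ : ∀ c, τ (σ₀ c) = residue T (θT c) := fun c =>
    congrArg Subtype.val (e.apply_symm_apply ⟨_, hsep c⟩)
  let σ : B →ₐ[A] ResidueField S :=
    { toRingHom := σ₀
      commutes' := fun a => τ.injective (by
        show τ (σ₀ (algebraMap A B a)) = τ (residue S (algebraMap A S a))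
        rw [hσ₀, AlgHom.commutes, ← hgA, hgr]) }
  obtain ⟨f, hf, -⟩ := Hensel.existsUnique_algHom_residue (T := S) B σ
  let gf : B →ₐ[A] T :=
    { toRingHom := g.comp f.toRingHom
      commutes' := fun a => by
        show g (f (algebraMap A B a)) = _
        rw [AlgHom.commutes, hgA] }
  let σT : B →ₐ[A] ResidueField T :=
    { toRingHom := (residue T).comp θT.toRingHom
      commutes' := fun a => congrArg (residue T) (θT.commutes a) }
  obtain ⟨v, -, hv⟩ := Hensel.existsUnique_algHom_residue (T := T) B σT
  have : gf = θT := (hv gf fun c => by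
    show residue T (g (f c)) = residue T (θT c)
    rw [hgr, hf]
    exact hσ₀ c).trans (hv θT fun _ => rfl).symm
  exact ⟨f c, DFunLike.congr_fun this c⟩

/-- If the localization of the base at the contraction is geometrically unibranch, at most one
component passes through the point. -/
theorem eq_of_le [IsLocalHom (algebraMap A Ash)] [_root_.Hensel.IsStrictHenselization A Ash]
    (r : Ideal Ash) [r.IsPrime] (p : Ideal A) [p.IsPrime] (hrp : r.comap (algebraMap A Ash) = p)
    (L : Type u) [CommRing L] [IsLocalRing L] [Algebra A L] [IsLocalization.AtPrime L p]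
    (hu : CAlg2.IsGeomUnibranch L) {q₁ q₂ : Ideal Ash} (h₁ : q₁ ∈ minimalPrimes Ash)
    (h₂ : q₂ ∈ minimalPrimes Ash) (l₁ : q₁ ≤ r) (l₂ : q₂ ≤ r) : q₁ = q₂ := by
  have hAsh := Hensel.isEtLike_of_isStrictHenselization A Ash
  haveI := hAsh.flat
  let R' := Localization.AtPrime r
  let T := Hens.StrictHenselization R'
  let S := Hens.StrictHenselization L
  letI : Algebra A T := ((algebraMap R' T).comp (algebraMap A R')).toAlgebra
  haveI : IsScalarTower A R' T := .of_algebraMap_eq fun _ => rfl
  have hunit : ∀ y : p.primeCompl, IsUnit (algebraMap A T y) := fun y => by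
    refine IsUnit.map (algebraMap R' T) ?_
    rw [IsScalarTower.algebraMap_apply A Ash R']
    exact IsLocalization.map_units R'
      (⟨algebraMap A Ash y, fun hy => y.2 (hrp.le hy)⟩ : r.primeCompl)
  letI : Algebra L T := (IsLocalization.lift hunit).toAlgebra
  haveI : IsScalarTower A L T := .of_algebraMap_eq fun a => (IsLocalization.lift_eq hunit a).symm
  haveI hLT : IsLocalHom (algebraMap L T) := ⟨fun x hx => by
    obtain ⟨⟨a, s⟩, e⟩ := IsLocalization.surj p.primeCompl x
    have ha : IsUnit (algebraMap A T a) := by
      rw [IsScalarTower.algebraMap_apply A L T, ← e, map_mul]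
      exact hx.mul (by rw [← IsScalarTower.algebraMap_apply A L T]; exact hunit s)
    have ha' : algebraMap A Ash a ∉ r := fun hr => by
      have h1 : IsUnit (algebraMap A R' a) := isUnit_of_map_unit (algebraMap R' T) _ ha
      rw [IsScalarTower.algebraMap_apply A Ash R',
        IsLocalization.AtPrime.isUnit_to_map_iff R' r] at h1
      exact h1 hr
    have : IsUnit (x * algebraMap A L s) := e ▸ IsLocalization.map_units L
      (⟨a, fun hp => ha' (hrp.ge hp)⟩ : p.primeCompl)
    exact isUnit_of_mul_isUnit_left this⟩
  haveI : IsSepClosed (ResidueField T) :=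
    (inferInstance : _root_.Hensel.IsStrictHenselization R' T).isSepClosure.sep_closed
  haveI : IsSepClosed (ResidueField S) :=
    (inferInstance : _root_.Hensel.IsStrictHenselization L S).isSepClosure.sep_closed
  haveI : Algebra.IsSeparable (ResidueField L) (ResidueField S) :=
    (inferInstance : _root_.Hensel.IsStrictHenselization L S).isSepClosure.separable
  let τ : ResidueField S →ₐ[ResidueField L] ResidueField T := IsSepClosed.lift
  haveI : HenselianLocalRing T :=
    (inferInstance : _root_.Hensel.IsStrictHenselization R' T).henselian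
  haveI : HenselianLocalRing S :=
    (inferInstance : _root_.Hensel.IsStrictHenselization L S).henselian
  obtain ⟨g, ⟨hg, hgr⟩, -⟩ := (inferInstance : _root_.Hensel.IsStrictHenselization L S).universal
    T (algebraMap L T) τ.toRingHom (RingHom.ext fun x => τ.commutes x)
  letI : Algebra A S := ((algebraMap L S).comp (algebraMap A L)).toAlgebra
  haveI : IsScalarTower A L S := .of_algebraMap_eq fun _ => rfl
  have hgA : ∀ a, g (algebraMap A S a) = algebraMap A T a := fun a => by
    show g (algebraMap L S (algebraMap A L a)) = _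
    rw [← RingHom.comp_apply, hg, ← IsScalarTower.algebraMap_apply]
  -- every element of `Ash` has its image in `T` in the range of `g`
  have hrange : ∀ z : Ash, ∃ w : S, g w = algebraMap R' T (algebraMap Ash R' z) := fun z => by
    classical
    obtain ⟨B, _, _, hB, θ, hθ⟩ := hAsh.stage {z}
    obtain ⟨b, hb⟩ := hθ z (Finset.mem_singleton_self z)
    obtain ⟨w, hw⟩ := exists_lift_range (L := L) g τ.toRingHom hg hgr
      (((IsScalarTower.toAlgHom A R' T).comp (IsScalarTower.toAlgHom A Ash R')).comp θ) b
    refine ⟨w, hw.trans ?_⟩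
    show algebraMap R' T (algebraMap Ash R' (θ b)) = _
    rw [show θ b = z from hb]
  obtain ⟨P₀, hP₀, huniq⟩ := (S2135.result (A := L) (Ash := S)).mp hu
  haveI := hP₀.1.1
  have hS := Hensel.isEtLike_of_isStrictHenselization L S
  haveI := hS.flat
  haveI : Module.FaithfullyFlat R' T := Hens.faithfullyFlat_of_isStrictHenselization T
  have key : ∀ q : Ideal Ash, q ∈ minimalPrimes Ash → q ≤ r →
      ∀ z : Ash, ∀ w : S, g w = algebraMap R' T (algebraMap Ash R' z) → (z ∈ q ↔ w ∈ P₀) := by
    intro q hq hqr
    haveI := hq.1.1
    have hdisj : Disjoint (r.primeCompl : Set Ash) (q : Set Ash) :=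
      Set.disjoint_left.mpr fun x hx hxq => hx (hqr hxq)
    haveI := IsLocalization.isPrime_of_isPrime_disjoint r.primeCompl R' q inferInstance hdisj
    obtain ⟨⟨Q, hQ⟩, hQq⟩ := PrimeSpectrum.comap_surjective_of_faithfullyFlat (A := R') (B := T)
      ⟨q.map (algebraMap Ash R'), inferInstance⟩
    have hQq' : Q.comap (algebraMap R' T) = q.map (algebraMap Ash R') :=
      congrArg PrimeSpectrum.asIdeal hQq
    have hAq : ∀ a : A, algebraMap A T a ∈ Q ↔ algebraMap A Ash a ∈ q := fun a => by
      show algebraMap A R' a ∈ Q.comap (algebraMap R' T) ↔ _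
      rw [hQq', IsScalarTower.algebraMap_apply A Ash R']
      exact SetLike.ext_iff.mp (IsLocalization.comap_map_of_isPrime_disjoint r.primeCompl R'
        inferInstance hdisj) (algebraMap A Ash a)
    let P := Q.comap g
    haveI : P.IsPrime := hQ.comap g
    obtain ⟨P', hP', hP'le⟩ := Ideal.exists_minimalPrimes_le (bot_le : (⊥ : Ideal S) ≤ P)
    have hPP : P₀ ≤ P := (huniq P' hP').symm.le.trans hP'le
    have hmin := Hens.comap_mem_minimalPrimes_of_flat (R := A) hq
    have hPL : ((P.comap (algebraMap L S)).comap (algebraMap A L)) = q.comap (algebraMap A Ash) :=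
      Ideal.ext fun a => by
        show g (algebraMap A S a) ∈ Q ↔ _
        rw [hgA]
        exact hAq a
    have hcomap : P₀.comap (algebraMap L S) = P.comap (algebraMap L S) := by
      haveI : (P₀.comap (algebraMap L S)).IsPrime := inferInstance
      have hle := Ideal.comap_mono (f := algebraMap L S) hPP
      rw [← IsLocalization.map_comap p.primeCompl L (P₀.comap (algebraMap L S)),
        ← IsLocalization.map_comap p.primeCompl L (P.comap (algebraMap L S))]
      congr 1
      refine le_antisymm (Ideal.comap_mono hle) ?_
      show (P.comap (algebraMap L S)).comap (algebraMap A L) ≤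
        (P₀.comap (algebraMap L S)).comap (algebraMap A L)
      rw [hPL]
      exact hmin.2 ⟨inferInstance, bot_le⟩ ((Ideal.comap_mono hle).trans hPL.le)
    have hP₀P : P₀ = P := hS.eq_of_le_of_comap_eq hPP hcomap
    intro z w hw
    rw [hP₀P]
    show _ ↔ g w ∈ Q
    rw [hw]
    show _ ↔ algebraMap Ash R' z ∈ Q.comap (algebraMap R' T)
    rw [hQq']
    exact (SetLike.ext_iff.mp (IsLocalization.comap_map_of_isPrime_disjoint r.primeCompl R'
      inferInstance hdisj) z).symm
  refine Ideal.ext fun z => ?_
  obtain ⟨w, hw⟩ := hrange z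
  exact (key q₁ h₁ l₁ z w hw).trans (key q₂ h₂ l₂ z w hw).symm

end Groth.Agent.Hens51
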